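import Mathlib.Algebra.Group.Subgroup.Defs
import Mathlib.Data.Nat.Factorization.Induction

/-!
The largest `P`-divisible subgroup as intersection of the `nA`.
-/

set_option autoImplicit false
universe u v

namespace MaxDivLib

lemma div_part {A : Type u} [AddCommGroup A] (P : Set ℕ) (IP : Set ℕ)
    (hIP : ∀ n, n ∈ IP ↔ 0 < n ∧ ∀ p : ℕ, p.Prime → p ∣ n → p ∈ P)
    (H : AddSubgroup A) (hH : ∀ ℓ ∈ P, ∀ x ∈ H, ∃ y ∈ H, ℓ • y = x) :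
    ∀ n ∈ IP, ∀ x ∈ H, ∃ y ∈ H, x = n • y := by
  intro n
  induction n using Nat.recOnMul with
  | zero => intro h; exact absurd ((hIP 0).mp h).1 (lt_irrefl 0)
  | one => intro _ x hx; exact ⟨x, hx, (one_smul ℕ x).symm⟩
  | prime p hp =>
    intro h x hx
    obtain ⟨y, hy, hxy⟩ := hH p (((hIP p).mp h).2 p hp dvd_rfl) x hx
    exact ⟨y, hy, hxy.symm⟩
  | mul a b iha ihb =>
    intro h x hx
    obtain ⟨h0, hdiv⟩ := (hIP _).mp h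
    have ha : a ∈ IP := (hIP a).mpr ⟨Nat.pos_of_mul_pos_right h0,
      fun p hp hd => hdiv p hp (hd.mul_right b)⟩
    have hb : b ∈ IP := (hIP b).mpr ⟨Nat.pos_of_mul_pos_left h0,
      fun p hp hd => hdiv p hp (hd.mul_left a)⟩
    obtain ⟨y, hy, rfl⟩ := iha ha x hx
    obtain ⟨z, hz, rfl⟩ := ihb hb y hy
    exact ⟨z, hz, (mul_smul a b z).symm⟩

theorem main {A : Type u} [AddCommGroup A] (P : Set ℕ) (hP : ∀ p ∈ P, p.Prime)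
    (IP : Set ℕ) (hIP : ∀ n, n ∈ IP ↔ 0 < n ∧ ∀ p : ℕ, p.Prime → p ∣ n → p ∈ P)
    (B : IP → Type v) [∀ n, AddCommGroup (B n)]
    (g : ∀ ⦃m n : IP⦄, (m : ℕ) ∣ (n : ℕ) → (B n →+ B m))
    (φ : ∀ n : IP, A →+ B n) (hφ : ∀ (n : IP) (a : A), φ n ((n : ℕ) • a) = 0)
    (hφg : ∀ (m n : IP) (h : (m : ℕ) ∣ (n : ℕ)) (a : A), g h (φ n a) = φ m a)
    (N : ℕ) (hN : N ∈ IP)
    (htor : ∀ b : ∀ n : IP, B n, (∀ (m n : IP) (h : (m : ℕ) ∣ (n : ℕ)), g h (b n) = b m) →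
      (∃ k : ℕ, 0 < k ∧ ∀ n, k • b n = 0) → ∀ n, N • b n = 0)
    (hker : ∀ a : IP → A, (∀ m n : IP, (m : ℕ) ∣ (n : ℕ) → ∃ c : A, a n - a m = (m : ℕ) • c) →
      (∀ n, φ n (a n) = 0) → ∀ n : IP, ∃ c : A, N • a n = (n : ℕ) • c) :
    (∀ ℓ ∈ P, ∀ x : A, (∀ n ∈ IP, ∃ y : A, x = n • y) →
        ∃ y : A, (∀ n ∈ IP, ∃ z : A, y = n • z) ∧ ℓ • y = x) ∧
    (∀ H : AddSubgroup A, (∀ ℓ ∈ P, ∀ x ∈ H, ∃ y ∈ H, ℓ • y = x) →
        ∀ x ∈ H, ∀ n ∈ IP, ∃ y : A, x = n • y) := by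
  refine ⟨?_, fun H hH x hx n hn => (div_part P IP hIP H hH n hn x hx).imp fun y h => h.2⟩
  intro ℓ hℓ x hx
  have hmulmem : ∀ a ∈ IP, ∀ b ∈ IP, a * b ∈ IP := fun a ha b hb =>
    (hIP _).mpr ⟨Nat.mul_pos ((hIP a).mp ha).1 ((hIP b).mp hb).1, fun p hp hd =>
      (hp.dvd_mul.mp hd).elim (((hIP a).mp ha).2 p hp) (((hIP b).mp hb).2 p hp)⟩
  have h1 : (1 : ℕ) ∈ IP := (hIP 1).mpr ⟨one_pos, fun p hp hd => absurd hd hp.not_dvd_one⟩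
  have hℓI : ℓ ∈ IP := (hIP ℓ).mpr ⟨(hP ℓ hℓ).pos, fun p hp hd =>
    ((Nat.prime_dvd_prime_iff_eq hp (hP ℓ hℓ)).mp hd) ▸ hℓ⟩
  have hM : ℓ * (N * N) ∈ IP := hmulmem _ hℓI _ (hmulmem _ hN _ hN)
  choose y hy using fun n : IP => hx _ (hmulmem _ hM _ n.2)
  let e : IP := ⟨1, h1⟩
  let t : IP → A := fun n => y e - (n : ℕ) • y n
  have ht : ∀ m n : IP, (m : ℕ) ∣ (n : ℕ) → ∃ c : A, t n - t m = (m : ℕ) • c := by
    rintro m n ⟨d, hd⟩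
    refine ⟨y m - d • y n, ?_⟩
    simp only [t, smul_sub, sub_sub_sub_cancel_left, smul_smul, ← hd]
  have htk : ∀ n, (ℓ * (N * N)) • t n = 0 := by
    intro n
    simp only [t, smul_sub, smul_smul]
    rw [← hy n, sub_eq_zero]
    simpa [e] using (hy e).symm
  have hNb : ∀ n, N • φ n (t n) = 0 := by
    refine htor (fun n => φ n (t n)) (fun m n h => ?_)
      ⟨ℓ * (N * N), ((hIP _).mp hM).1, fun n => by rw [← map_nsmul, htk, map_zero]⟩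
    obtain ⟨c, hc⟩ := ht m n h
    rw [hφg m n h, ← sub_eq_zero, ← map_sub, hc, hφ]
  have hc := hker (fun n => N • t n) (fun m n h => by
      obtain ⟨c, hc⟩ := ht m n h
      exact ⟨N • c, by rw [← smul_sub, hc, smul_comm]⟩)
    (fun n => by rw [map_nsmul]; exact hNb n)
  refine ⟨(N * N) • y e, fun n hn => ?_, ?_⟩
  · obtain ⟨c, hc⟩ := hc ⟨n, hn⟩
    simp only [t, smul_smul, smul_sub, sub_eq_iff_eq_add] at hc
    refine ⟨c + (N * N) • y ⟨n, hn⟩, ?_⟩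
    rw [hc, smul_add, smul_smul, mul_comm n (N * N), mul_assoc]
  · rw [smul_smul]
    simpa [e] using (hy e).symm

end MaxDivLib
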